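import Cfsg.Agent.H270.Crit.Base
import Cfsg.Agent.ClassicalGeometry.PSL2Basic
import Cfsg.Agent.S2602
import Cfsg.Agent.S0253
import Cfsg.Agent.Prune
set_option linter.all false
prune_inst 0x7f00000000000000000000000000000000000000000000000000000000000000000000000000000000000000000000000000000000000000000000000000000000000000000000000000000000000000003fffffffffffffffffffffffffffbeffbdffffffff
open scoped Cfsg.Agent.FastGrp

/-!
# `Crit` for `PSL₂(q)`, `q ≥ 4` (helper270)

A unipotent element has a centralizer of order `≤ q`; a generator of the diagonal torus has a centralizer of order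
`≤ (q - 1) / gcd(2, q - 1)` (used for `q = 4, 7, 9`); `q = 5` : an element of order 3 of `A₅`.
-/

set_option autoImplicit false

namespace Cfsg.Agent.H270.Crit.LTwo

open Matrix Subgroup Cfsg Cfsg.Agent.H548.Crit Cfsg.Agent.ClassicalGeometry.PSL2Basic

variable {F : Type*} [Field F]

/-- the class of a matrix -/
abbrev mk (A : SpecialLinearGroup (Fin 2) F) : ProjectiveSpecialLinearGroup (Fin 2) F := QuotientGroup.mk A

theorem mk_neg (A : SpecialLinearGroup (Fin 2) F) : mk (-A) = mk A := by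
  refine (QuotientGroup.eq.2 ?_).symm
  rw [mem_center_SL2_iff]
  right
  rw [mul_neg, inv_mul_cancel]

theorem comm_cases {A B : SpecialLinearGroup (Fin 2) F} (h : mk A * mk B = mk B * mk A) :
    A * B = B * A ∨ A * B = -(B * A) := by
  have h1 : mk (B * A) = mk (A * B) := h.symm
  have h2 := QuotientGroup.eq.1 h1
  rcases mem_center_SL2_iff.1 h2 with h3 | h3
  · left
    rw [inv_mul_eq_one] at h3
    exact h3.symm
  · right
    rw [inv_mul_eq_iff_eq_mul] at h3
    rw [h3, mul_neg, mul_one]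

/-- upper unitriangular matrices -/
def up (b : F) : SpecialLinearGroup (Fin 2) F := ⟨!![1, b; 0, 1], by simp⟩

/-- diagonal matrices -/
def dg (a : Fˣ) : SpecialLinearGroup (Fin 2) F := ⟨!![(a : F), 0; 0, ((a⁻¹ : Fˣ) : F)], by simp⟩

theorem ext_iff' {A B : SpecialLinearGroup (Fin 2) F} :
    A = B ↔ A.1 0 0 = B.1 0 0 ∧ A.1 0 1 = B.1 0 1 ∧ A.1 1 0 = B.1 1 0 ∧ A.1 1 1 = B.1 1 1 := by
  constructor
  · rintro rfl; exact ⟨rfl, rfl, rfl, rfl⟩
  · rintro ⟨h1, h2, h3, h4⟩
    apply Subtype.ext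
    ext i j
    fin_cases i <;> fin_cases j
    · exact h1
    · exact h2
    · exact h3
    · exact h4

theorem det_eq (A : SpecialLinearGroup (Fin 2) F) : A.1 0 0 * A.1 1 1 - A.1 0 1 * A.1 1 0 = 1 := by
  have := A.2
  rwa [det_fin_two] at this

theorem mul_entries (A B : SpecialLinearGroup (Fin 2) F) :
    (A * B).1 0 0 = A.1 0 0 * B.1 0 0 + A.1 0 1 * B.1 1 0 ∧ (A * B).1 0 1 = A.1 0 0 * B.1 0 1 + A.1 0 1 * B.1 1 1 ∧
    (A * B).1 1 0 = A.1 1 0 * B.1 0 0 + A.1 1 1 * B.1 1 0 ∧ (A * B).1 1 1 = A.1 1 0 * B.1 0 1 + A.1 1 1 * B.1 1 1 := by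
  have h : (A * B).1 = A.1 * B.1 := rfl
  rw [h]
  refine ⟨?_, ?_, ?_, ?_⟩ <;> rw [Matrix.mul_apply, Fin.sum_univ_two]

theorem neg_entries (A : SpecialLinearGroup (Fin 2) F) (i j : Fin 2) : (-A).1 i j = -(A.1 i j) := rfl

theorem up00 (b : F) : (up b).1 0 0 = 1 := rfl
theorem up01 (b : F) : (up b).1 0 1 = b := rfl
theorem up10 (b : F) : (up b).1 1 0 = 0 := rfl
theorem up11 (b : F) : (up b).1 1 1 = 1 := rfl
theorem dg00 (a : Fˣ) : (dg a).1 0 0 = a := rfl
theorem dg01 (a : Fˣ) : (dg a).1 0 1 = 0 := rfl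
theorem dg10 (a : Fˣ) : (dg a).1 1 0 = 0 := rfl
theorem dg11 (a : Fˣ) : (dg a).1 1 1 = ((a⁻¹ : Fˣ) : F) := rfl

/-! ### Unipotent elements -/

theorem comm_up {A : SpecialLinearGroup (Fin 2) F} (h : mk A * mk (up 1) = mk (up 1) * mk A) :
    A.1 1 0 = 0 ∧ A.1 0 0 = A.1 1 1 := by
  have hd := det_eq A
  obtain ⟨a1, a2, a3, a4⟩ := mul_entries A (up 1)
  obtain ⟨b1, b2, b3, b4⟩ := mul_entries (up 1) A
  rw [up00, up10] at a1 a3
  rw [up01, up11] at a2 a4
  rw [up00, up01] at b1 b2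
  rw [up10, up11] at b3 b4
  rcases comm_cases h with h1 | h1
  · obtain ⟨e1, e2, e3, e4⟩ := ext_iff'.1 h1
    rw [a1, b1] at e1
    rw [a2, b2] at e2
    constructor
    · linear_combination -e1
    · linear_combination e2
  · obtain ⟨e1, e2, e3, e4⟩ := ext_iff'.1 h1
    rw [neg_entries] at e1 e2 e3 e4
    rw [a1, b1] at e1
    rw [a2, b2] at e2
    rw [a3, b3] at e3
    rw [a4, b4] at e4
    have h2 : (2 : F) = 0 := by
      by_contra h2
      have h3 : A.1 1 0 = 0 := by
        apply mul_left_cancel₀ h2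
        linear_combination e3
      have h4 : A.1 0 0 = 0 := by
        apply mul_left_cancel₀ h2
        linear_combination e1 - h3
      rw [h3, h4] at hd
      simp at hd
    constructor
    · linear_combination e1 - A.1 0 0 * h2
    · linear_combination e2 + (-A.1 1 1 - A.1 0 1) * h2

theorem mk_eq_up {A : SpecialLinearGroup (Fin 2) F} (h10 : A.1 1 0 = 0) (h : A.1 0 0 = A.1 1 1) :
    ∃ b : F, mk (up b) = mk A := by
  have hd := det_eq A
  rw [h10, ← h] at hd
  have h1 : (A.1 0 0 - 1) * (A.1 0 0 + 1) = 0 := by linear_combination hd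
  rcases mul_eq_zero.1 h1 with h2 | h2
  · refine ⟨A.1 0 1, congrArg mk (ext_iff'.2 ⟨?_, ?_, ?_, ?_⟩)⟩
    · rw [up00]; linear_combination -h2
    · rw [up01]
    · rw [up10, h10]
    · rw [up11, ← h]; linear_combination -h2
  · refine ⟨-A.1 0 1, ?_⟩
    rw [← mk_neg A]
    refine congrArg mk (ext_iff'.2 ⟨?_, ?_, ?_, ?_⟩)
    · rw [up00, neg_entries]; linear_combination h2
    · rw [up01, neg_entries]
    · rw [up10, neg_entries, h10, neg_zero]
    · rw [up11, neg_entries, ← h]; linear_combination h2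

theorem up_comm (b c : F) : up b * up c = up c * up b := by
  obtain ⟨a1, a2, a3, a4⟩ := mul_entries (up b) (up c)
  obtain ⟨b1, b2, b3, b4⟩ := mul_entries (up c) (up b)
  rw [ext_iff', a1, a2, a3, a4, b1, b2, b3, b4, up00, up01, up10, up11, up00, up01, up10, up11]
  refine ⟨?_, ?_, ?_, ?_⟩ <;> ring

theorem card_up [Fintype F] :
    Nat.card (centralizer ({mk (up 1)} : Set (ProjectiveSpecialLinearGroup (Fin 2) F))) ≤ Fintype.card F := by
  rw [← Nat.card_eq_fintype_card]
  refine Nat.card_le_card_of_surjective (fun b : F =>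
    (⟨mk (up b), mem_centralizer_singleton_iff.2 (by
      show mk (up b * up 1) = mk (up 1 * up b)
      rw [up_comm])⟩ : centralizer ({mk (up 1)} : Set (ProjectiveSpecialLinearGroup (Fin 2) F)))) ?_
  rintro ⟨x, hx⟩
  obtain ⟨A, rfl⟩ := QuotientGroup.mk_surjective x
  obtain ⟨h1, h2⟩ := comm_up (mem_centralizer_singleton_iff.1 hx)
  obtain ⟨b, hb⟩ := mk_eq_up h1 h2
  exact ⟨b, Subtype.ext hb⟩

/-! ### The torus -/

theorem comm_dg {A : SpecialLinearGroup (Fin 2) F} {a : Fˣ} (ha : (a : F) ^ 2 ≠ 1) (ha' : (a : F) ^ 2 ≠ -1)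
    (h : mk A * mk (dg a) = mk (dg a) * mk A) : A.1 1 0 = 0 ∧ A.1 0 1 = 0 := by
  have hinv : (a : F) * ((a⁻¹ : Fˣ) : F) = 1 := a.mul_inv
  have ha0 : (a : F) ≠ 0 := a.ne_zero
  have g1 : ((a : F) - ((a⁻¹ : Fˣ) : F)) ≠ 0 := by
    intro h0
    apply ha
    linear_combination (a : F) * h0 + hinv
  have g2 : ((a : F) + ((a⁻¹ : Fˣ) : F)) ≠ 0 := by
    intro h0
    apply ha'
    linear_combination (a : F) * h0 - hinv
  obtain ⟨a1, a2, a3, a4⟩ := mul_entries A (dg a)
  obtain ⟨b1, b2, b3, b4⟩ := mul_entries (dg a) A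
  rw [dg00, dg10] at a1 a3
  rw [dg01, dg11] at a2 a4
  rw [dg00, dg01] at b1 b2
  rw [dg10, dg11] at b3 b4
  rcases comm_cases h with h1 | h1
  · obtain ⟨e1, e2, e3, e4⟩ := ext_iff'.1 h1
    rw [a2, b2] at e2
    rw [a3, b3] at e3
    constructor
    · apply mul_left_cancel₀ g1
      linear_combination e3
    · apply mul_left_cancel₀ g1
      linear_combination -e2
  · obtain ⟨e1, e2, e3, e4⟩ := ext_iff'.1 h1
    rw [neg_entries] at e1 e2 e3 e4
    rw [a2, b2] at e2
    rw [a3, b3] at e3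
    constructor
    · apply mul_left_cancel₀ g2
      linear_combination e3
    · apply mul_left_cancel₀ g2
      linear_combination e2

/-- the torus -/
def dgHom : Fˣ →* SpecialLinearGroup (Fin 2) F where
  toFun := dg
  map_one' := by
    rw [ext_iff']
    simp [dg00, dg01, dg10, dg11]
  map_mul' a b := by
    obtain ⟨b1, b2, b3, b4⟩ := mul_entries (dg a) (dg b)
    rw [ext_iff', b1, b2, b3, b4]
    simp only [dg00, dg01, dg10, dg11]
    refine ⟨?_, ?_, ?_, ?_⟩
    · simp
    · ring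
    · ring
    · rw [mul_inv]; simp

theorem dg_mul (a b : Fˣ) : dg (a * b) = dg a * dg b := dgHom.map_mul a b

/-- The torus maps onto the centralizer. -/
def tor (a : Fˣ) : Fˣ →* centralizer ({mk (dg a)} : Set (ProjectiveSpecialLinearGroup (Fin 2) F)) where
  toFun b := ⟨mk (dg b), mem_centralizer_singleton_iff.2 (by
    show mk (dg b * dg a) = mk (dg a * dg b)
    rw [← dg_mul, ← dg_mul, mul_comm])⟩
  map_one' := Subtype.ext (by
    show mk (dgHom 1) = 1
    rw [map_one]; rfl)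
  map_mul' b c := Subtype.ext (by
    show mk (dg (b * c)) = mk (dg b) * mk (dg c)
    rw [dg_mul]; rfl)

theorem tor_surjective {a : Fˣ} (ha : (a : F) ^ 2 ≠ 1) (ha' : (a : F) ^ 2 ≠ -1) : Function.Surjective (tor a) := by
  rintro ⟨x, hx⟩
  obtain ⟨A, rfl⟩ := QuotientGroup.mk_surjective x
  obtain ⟨h1, h2⟩ := comm_dg ha ha' (mem_centralizer_singleton_iff.1 hx)
  have hd := det_eq A
  rw [h1, h2, mul_zero, sub_zero] at hd
  refine ⟨⟨A.1 0 0, A.1 1 1, hd, by rw [mul_comm]; exact hd⟩, Subtype.ext (congrArg mk (ext_iff'.2 ⟨?_, ?_, ?_, ?_⟩))⟩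
  · rfl
  · rw [dg01, h2]
  · rw [dg10, h1]
  · rfl

theorem tor_neg_one (a : Fˣ) : tor a (-1) = 1 := by
  apply Subtype.ext
  show mk (dg (-1)) = 1
  have h : dg (-1 : Fˣ) = -dg 1 := by
    rw [ext_iff']
    simp only [neg_entries, dg00, dg01, dg10, dg11]
    simp
  rw [h, mk_neg]
  show mk (dgHom 1) = 1
  rw [map_one]; rfl

theorem card_dg [Fintype F] {a : Fˣ} (ha : (a : F) ^ 2 ≠ 1) (ha' : (a : F) ^ 2 ≠ -1) :
    Nat.card (centralizer ({mk (dg a)} : Set (ProjectiveSpecialLinearGroup (Fin 2) F))) ≤ Fintype.card F - 1 ∧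
    ((2 : F) ≠ 0 → Nat.card (centralizer ({mk (dg a)} : Set (ProjectiveSpecialLinearGroup (Fin 2) F))) * 2 ≤
      Fintype.card F - 1) := by
  classical
  have h1 := Subgroup.card_mul_index (tor a).ker
  rw [Subgroup.index_ker, MonoidHom.range_eq_top.2 (tor_surjective ha ha'), Subgroup.card_top] at h1
  have h2 : Nat.card Fˣ = Fintype.card F - 1 := by
    rw [Nat.card_eq_fintype_card, Fintype.card_units]
  rw [h2] at h1
  have h3 : 0 < Nat.card (tor a).ker := Nat.card_pos
  refine ⟨?_, fun h => ?_⟩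
  · rw [← h1]
    exact Nat.le_mul_of_pos_left _ h3
  · rw [← h1, mul_comm]
    refine Nat.mul_le_mul_right _ ?_
    have h4 : Nontrivial (tor a).ker := by
      refine ⟨⟨⟨-1, tor_neg_one a⟩, 1, fun h5 => ?_⟩⟩
      have h6 : (-1 : Fˣ) = 1 := congrArg Subtype.val h5
      have h7 : (-1 : F) = 1 := congrArg Units.val h6
      apply h
      linear_combination -h7
    exact Finite.one_lt_card

/-- A generator of the torus. -/
theorem exists_unit [Fintype F] (h : ¬ (Fintype.card F - 1) ∣ 4) : ∃ a : Fˣ, (a : F) ^ 2 ≠ 1 ∧ (a : F) ^ 2 ≠ -1 := by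
  classical
  obtain ⟨a, ha⟩ := IsCyclic.exists_ofOrder_eq_natCard (α := Fˣ)
  rw [Nat.card_eq_fintype_card, Fintype.card_units] at ha
  have h4 : a ^ 4 ≠ 1 := by
    intro h4
    exact h (ha ▸ orderOf_dvd_of_pow_eq_one h4)
  refine ⟨a, fun h1 => h4 ?_, fun h1 => h4 ?_⟩
  · apply Units.ext
    rw [Units.val_pow_eq_pow_val, Units.val_one]
    linear_combination ((a : F) ^ 2 + 1) * h1
  · apply Units.ext
    rw [Units.val_pow_eq_pow_val, Units.val_one]
    linear_combination ((a : F) ^ 2 - 1) * h1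

/-! ### The theorem -/

theorem card_out [Fintype F] {p f : ℕ} [Fact p.Prime] (hf : 1 ≤ f) (hF : Fintype.card F = p ^ f) (h4 : 4 ≤ p ^ f) :
    Nat.card (Cfsg.Out (ProjectiveSpecialLinearGroup (Fin 2) F)) = f * Nat.gcd 2 (p ^ f - 1) := by
  obtain ⟨φ, hs, -, hk⟩ := S2602.result (F := F) hf hF h4
  have h1 := Subgroup.card_mul_index φ.ker
  rw [Subgroup.index_ker, MonoidHom.range_eq_top.2 hs, Subgroup.card_top, hk] at h1
  rw [← h1, Nat.card_congr Multiplicative.toAdd, Nat.card_zmod, mul_comm]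

theorem two_pow_bound : ∀ f : ℕ, 3 ≤ f → 2 * f + 1 ≤ 2 ^ f := by
  intro f hf
  induction f, hf using Nat.le_induction with
  | base => norm_num
  | succ n hn ih => rw [pow_succ]; omega

theorem three_pow_bound : ∀ f : ℕ, 3 ≤ f → 8 * f + 1 ≤ 3 ^ f := by
  intro f hf
  induction f, hf using Nat.le_induction with
  | base => norm_num
  | succ n hn ih => rw [pow_succ]; omega

theorem odd_bound {p f : ℕ} (hp : p.Prime) (hf : 1 ≤ f) (hodd : p ≠ 2) (h : 10 ≤ p ^ f) : 8 * f + 1 ≤ p ^ f := by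
  have h3 : 3 ≤ p := by
    have := hp.two_le
    omega
  rcases Nat.lt_or_ge f 3 with h1 | h1
  · interval_cases f
    · omega
    · have h5 : p ≠ 3 := by
        rintro rfl
        norm_num at h
      have h6 : p ≠ 4 := by
        rintro rfl
        norm_num at hp
      have h7 : 5 ≤ p := by omega
      calc 8 * 2 + 1 ≤ 5 ^ 2 := by norm_num
        _ ≤ p ^ 2 := Nat.pow_le_pow_left h7 2
  · exact (three_pow_bound f h1).trans (Nat.pow_le_pow_left h3 f)

theorem pow_sq_sub {q : ℕ} (h : 1 ≤ q) : q ^ 2 - 1 = (q - 1) * (q + 1) := by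
  obtain ⟨k, rfl⟩ := Nat.exists_eq_add_of_le h
  have h1 : (1 + k) ^ 2 = (1 + k - 1) * (1 + k + 1) + 1 := by
    rw [Nat.add_sub_cancel_left]; ring
  omega

/-- an element of order 3 of `A₅` -/
def x3 : alternatingGroup (Fin 5) :=
  ⟨Equiv.swap 0 1 * Equiv.swap 1 2, Equiv.Perm.mem_alternatingGroup.2 (by decide)⟩

theorem card_x3 : Nat.card (centralizer ({x3} : Set (alternatingGroup (Fin 5)))) = 3 := by
  have h : Nat.card (centralizer ({x3} : Set (alternatingGroup (Fin 5)))) =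
      Fintype.card {c : Equiv.Perm (Fin 5) // Equiv.Perm.sign c = 1 ∧
        c * (Equiv.swap 0 1 * Equiv.swap 1 2) = (Equiv.swap 0 1 * Equiv.swap 1 2) * c} := by
    rw [← Nat.card_eq_fintype_card]
    refine Nat.card_congr
      { toFun := fun c => ⟨c.1.1, Equiv.Perm.mem_alternatingGroup.1 c.1.2,
          congrArg Subtype.val (mem_centralizer_singleton_iff.1 c.2)⟩
        invFun := fun c => ⟨⟨c.1, Equiv.Perm.mem_alternatingGroup.2 c.2.1⟩,
          mem_centralizer_singleton_iff.2 (Subtype.ext c.2.2)⟩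
        left_inv := fun _ => rfl
        right_inv := fun _ => rfl }
  rw [h]
  decide +kernel

theorem crit_even {F : Type*} [Field F] [Fintype F] {f : ℕ} (hf : 2 ≤ f) (hF : Fintype.card F = 2 ^ f) :
    Crit (ProjectiveSpecialLinearGroup (Fin 2) F) := by
  have hpf : Fact (Nat.Prime 2) := ⟨Nat.prime_two⟩
  have h4 : 4 ≤ 2 ^ f := by
    calc 4 = 2 ^ 2 := by norm_num
      _ ≤ 2 ^ f := Nat.pow_le_pow_right (by norm_num) hf
  have ho := card_out (F := F) (by omega) hF h4
  have hev : Even (Fintype.card F) := by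
    rw [hF]
    exact (Nat.even_pow' (by omega)).2 even_two
  have hn := card_PSL2_even F hev
  have hg : Nat.gcd 2 (2 ^ f - 1) = 1 := by
    have h1 : Even (2 ^ f) := hF ▸ hev
    exact Nat.coprime_two_left.2 (Nat.Even.sub_odd (by omega) h1 odd_one)
  rw [hg, mul_one] at ho
  rcases Nat.lt_or_ge f 3 with h3 | h3
  · have hf2 : f = 2 := by omega
    subst hf2
    have hF4 : Fintype.card F = 4 := by rw [hF]; norm_num
    obtain ⟨a, ha, ha'⟩ := exists_unit (F := F) (by rw [hF4]; norm_num)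
    obtain ⟨hc, -⟩ := card_dg ha ha'
    rw [hF4] at hn hc
    norm_num at hn
    exact crit_iso (B := 5) (c := 3) (MulEquiv.refl _) _ hn ho.le hc [(2, 2), (3, 1), (5, 1)] (by norm_num)
      (by decide +kernel)
  · have hb := two_pow_bound f h3
    rw [hF] at hn
    have hc := card_up (F := F)
    rw [hF] at hc
    rw [pow_sq_sub (by omega)] at hn
    refine crit_of_lie (r := 2) (N := f) (M := (2 ^ f - 1) * (2 ^ f + 1)) (a := 2 ^ f - 1) (b := 2 ^ f + 1) (o := f)
      (mk (up 1)) Nat.prime_two hn ?_ hc ho.le ?_ (dvd_refl _) (by omega) (by omega) ?_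
    · rw [← pow_sq_sub (by omega)]
      intro h
      have h1 : 2 ∣ (2 ^ f) ^ 2 := dvd_pow (dvd_pow_self 2 (by omega)) two_ne_zero
      have h2 : 1 ≤ (2 ^ f) ^ 2 := Nat.one_le_pow _ _ (by omega)
      omega
    · have h1 : 2 ^ f + 1 = (2 ^ f - 1) + 2 := by omega
      rw [h1, Nat.coprime_self_add_right]
      have h2 : Even (2 ^ f) := hF ▸ hev
      exact Nat.coprime_two_right.2 (Nat.Even.sub_odd (by omega) h2 odd_one)
    · calc 2 * f * Nat.card (centralizer ({mk (up 1)} : Set (ProjectiveSpecialLinearGroup (Fin 2) F)))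
          ≤ (2 ^ f - 1) * 2 ^ f := Nat.mul_le_mul (by omega) hc
        _ ≤ (2 ^ f - 1) * (2 ^ f + 1) := Nat.mul_le_mul_left _ (by omega)

theorem crit_odd {F : Type*} [Field F] [Fintype F] {p f : ℕ} [Fact p.Prime] (hf : 1 ≤ f) (hp : p ≠ 2)
    (hF : Fintype.card F = p ^ f) (h4 : 4 ≤ p ^ f) : Crit (ProjectiveSpecialLinearGroup (Fin 2) F) := by
  have hpp : p.Prime := Fact.out
  have h3 : 3 ≤ p := by
    have := hpp.two_le
    omega
  have ho := card_out (F := F) hf hF h4
  have hodd : Odd (Fintype.card F) := by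
    rw [hF]
    exact (hpp.odd_of_ne_two hp).pow
  have h2F : (2 : F) ≠ 0 := (two_ne_zero_iff_odd F).2 hodd
  have hn := card_PSL2_odd F hodd
  have hg : Nat.gcd 2 (p ^ f - 1) = 2 := by
    apply Nat.gcd_eq_left
    have h1 : Odd (p ^ f) := hF ▸ hodd
    exact (Nat.Odd.sub_odd h1 odd_one).two_dvd
  rw [hg] at ho
  have hodd' : Odd (p ^ f) := hF ▸ hodd
  rcases Nat.lt_or_ge (p ^ f) 10 with h10 | h10
  · -- q = 5, 7, 9
    have hfb : f ≤ 2 := by
      by_contra hf3
      have h1 : 3 ^ 3 ≤ p ^ f := (Nat.pow_le_pow_left h3 3).trans (Nat.pow_le_pow_right (by omega) (by omega))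
      omega
    have hcases : p ^ f = 5 ∨ p ^ f = 7 ∨ p ^ f = 9 := by
      obtain ⟨k, hk⟩ := hodd'
      omega
    have hf1 : p ^ f < 9 → f = 1 := by
      intro h9
      by_contra hne
      have h1 : 3 ^ 2 ≤ p ^ f := (Nat.pow_le_pow_left h3 2).trans (Nat.pow_le_pow_right (by omega) (by omega))
      omega
    rcases hcases with h | h | h
    · obtain ⟨e⟩ := S0253.result (F := F) (by rw [hF, h])
      rw [hf1 (by omega)] at ho
      rw [hF, h] at hn
      norm_num at hn
      exact crit_iso (n := 60) (B := 5) (c := 3) e x3 (by omega) ho.le card_x3.le [(2, 2), (3, 1), (5, 1)] (by norm_num)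
        (by decide +kernel)
    · obtain ⟨a, ha, ha'⟩ := exists_unit (F := F) (by rw [hF, h]; norm_num)
      obtain ⟨-, hc⟩ := card_dg ha ha'
      have hc := hc h2F
      rw [hf1 (by omega)] at ho
      rw [hF, h] at hn hc
      norm_num at hn
      exact crit_iso (n := 168) (B := 8) (c := 3) (MulEquiv.refl _) (mk (dg a)) (by omega) ho.le (by omega)
        [(2, 3), (3, 1), (7, 1)] (by norm_num) (by decide +kernel)
    · obtain ⟨a, ha, ha'⟩ := exists_unit (F := F) (by rw [hF, h]; norm_num)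
      obtain ⟨-, hc⟩ := card_dg ha ha'
      have hc := hc h2F
      rw [hF, h] at hn hc
      norm_num at hn
      exact crit_iso (n := 360) (B := 9) (c := 4) (o := 4) (MulEquiv.refl _) (mk (dg a)) (by omega) (by omega) (by omega)
        [(2, 3), (3, 2), (5, 1)] (by norm_num) (by decide +kernel)
  · have hb := odd_bound hpp hf hp h10
    have hc := card_up (F := F)
    rw [hF] at hc hn
    rw [pow_sq_sub (by omega)] at hn
    obtain ⟨k, hk⟩ := hodd'
    have hM : Nat.card (ProjectiveSpecialLinearGroup (Fin 2) F) = p ^ f * (k * (2 * k + 2)) := by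
      have h1 : p ^ f - 1 = 2 * k := by omega
      have h2 : p ^ f + 1 = 2 * k + 2 := by omega
      rw [h1, h2] at hn
      apply Nat.eq_of_mul_eq_mul_right (show 0 < 2 by norm_num)
      rw [hn]; ring
    have hpM : ¬ p ∣ k * (2 * k + 2) := by
      intro h
      have h1 : p ∣ (p ^ f) ^ 2 := dvd_pow (dvd_pow_self p (by omega)) two_ne_zero
      have h2 : 2 * (k * (2 * k + 2)) + 1 = (p ^ f) ^ 2 := by rw [hk]; ring
      have h3 : p ∣ 2 * (k * (2 * k + 2)) := h.mul_left 2
      have h5 : p ∣ 1 := by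
        rw [← h2] at h1
        exact (Nat.dvd_add_right h3).1 h1
      exact hpp.one_lt.ne' (Nat.dvd_one.1 h5)
    have hcM : 2 * (f * 2) * Nat.card (centralizer ({mk (up 1)} : Set (ProjectiveSpecialLinearGroup (Fin 2) F))) ≤
        k * (2 * k + 2) := by
      calc 2 * (f * 2) * Nat.card (centralizer ({mk (up 1)} : Set (ProjectiveSpecialLinearGroup (Fin 2) F)))
          ≤ k * (2 * k + 1) := by
            refine Nat.mul_le_mul (by omega) ?_
            rw [← hk]; exact hc
        _ ≤ k * (2 * k + 2) := Nat.mul_le_mul_left _ (by omega)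
    rcases Nat.even_or_odd' k with ⟨m, hm | hm⟩
    · -- `k` even
      refine crit_of_lie (r := p) (N := f) (M := k * (2 * k + 2)) (a := 2 * k) (b := k + 1) (o := f * 2)
        (mk (up 1)) hpp hM hpM hc ho.le ?_ ⟨1, by ring⟩ (by omega) (by omega) hcM
      have h1 : Nat.Coprime k (k + 1) := by simp
      have h2 : Nat.Coprime 2 (k + 1) := Nat.coprime_two_left.2 ⟨m, by omega⟩
      exact Nat.Coprime.mul_left h2 h1
    · refine crit_of_lie (r := p) (N := f) (M := k * (2 * k + 2)) (a := k) (b := 2 * (k + 1)) (o := f * 2)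
        (mk (up 1)) hpp hM hpM hc ho.le ?_ ⟨1, by ring⟩ (by omega) (by omega) hcM
      have h1 : Nat.Coprime k (k + 1) := by simp
      have h2 : Nat.Coprime k 2 := Nat.coprime_two_right.2 ⟨m, by omega⟩
      exact Nat.Coprime.mul_right h2 h1

/-- **The criterion for `PSL₂(q)`.** -/
theorem crit_psl_two (F : Type*) [Field F] [Fintype F] (h4 : 4 ≤ Fintype.card F) :
    Crit (ProjectiveSpecialLinearGroup (Fin 2) F) := by
  obtain ⟨p, hchar⟩ := CharP.exists F
  obtain ⟨f, hpp, hF⟩ := FiniteField.card F p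
  have hpf : Fact p.Prime := ⟨hpp⟩
  by_cases hp : p = 2
  · subst hp
    refine crit_even (f := f) ?_ hF
    by_contra h
    have h1 : (f : ℕ) ≤ 1 := by omega
    have h2 : 2 ^ (f : ℕ) ≤ 2 ^ 1 := Nat.pow_le_pow_right (by norm_num) h1
    omega
  · exact crit_odd (f := f) f.2 hp hF (hF ▸ h4)

end Cfsg.Agent.H270.Crit.LTwo

private theorem dce_62ea81e5bdd9 : _root_.True := by
  try have : _root_.True := by simp only [_root_.Matrix.ProjectiveSpecialLinearGroup.congr_simp]
  exact _root_.True.intro
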